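import Cfsg.Agent.Screen.CosetEnum.Core

/-!
# Cosets of the certificate
-/

set_option autoImplicit false
set_option maxRecDepth 20000

namespace Cfsg.Agent.Screen.CosetEnum.Fi23Ord.F23L1

open Cfsg.Agent.Screen.CosetEnum

def cosetTree0 : Tr :=
  (.leaf 0x1e000050008b0001d00001000860001b000020007b00019000020007a00019000000007500017000000006f00016000010006800015000000006b00014000010005900013000050006000011000010005700010000050005000010000030005d0000e00005000420000d000050003c0000d000040003e0000a00005000390000a00004000320000a000020003700008000040002b00007000050004000007000030002200006000040002a00005000030001c00005000010002300004000030001b00003000020001000002000020000f00002000000001100001000010000b000000000500006000000000000000)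

/-- Packed table. -/
def cosetTree : Tr := cosetTree0

end Cfsg.Agent.Screen.CosetEnum.Fi23Ord.F23L1
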