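import Cfsg.Agent.Screen.CosetEnum.Core

/-!
# Facts of the certificate
-/

set_option autoImplicit false
set_option maxRecDepth 20000

namespace Cfsg.Agent.Screen.CosetEnum.Fi23Ord.F23L1

open Cfsg.Agent.Screen.CosetEnum

def factTree0 : Tr :=
  (.leaf 0x8b000010008b0008b000040008b0008b000030008b0008b000020008b0008b000000008b0008b000050008600086000020008600086000000008600086000040008600086000030008600086000010007b0007b000040007b0007b000050007b0007b000030007b0007a000030007a0007a000010007a0007a000040007a0007a000050007a00075000040007500075000050007500075000020007b0007b000000007a0007a00002000680007500001000750006f000010006f0006800005000680006f00003000750007500000000680006f000050006f0006f000020006f0006800004000680006b000010006b0006b000040006f0006f00000000590006b000030006b0006b000050006b0006b000020006b0006b00000000570006000004000600005900003000680006800001000600006000000000600006000002000600005900002000590005d000040005d0005d000020005d00059000050005900050000030006000060000050005d0005d000010005d0005d000000005d0005d000030003e00057000050005700057000020005700057000040005900059000010005000057000030005700057000010003c0005000000000500003c00004000500003c000030003c0003c000000003c0004200003000420003e00005000500005000002000420004200000000420003e000000003e0004200001000420003e000010003e00040000010004000040000040004000040000020004000040000000004000032000030003200037000030003700039000010003900037000010003700039000040004200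042000050003200039000030004000040000050002300037000040003e0003e000020003200037000050003c0003c00002000390003200000000320003900000000390003900005000220003700000000370003700002000220002b000030002b0002b000050002b0002b000020002b00022000040003200032000010002b0002a000030002a0002200000000220002a000050002a0002a000020002a0002a000010002a0001c000040002b0002b000000002a0002a000040001b0001c000020001c0002300002000230002300000000230001c000050001c00023000040002300010000010002300023000030002200022000010001c0001b000020001b0001b000050001b0001b000010001b00010000040001000010000030001c0001c000000001b0001b000030000f0001000005000100000f000010000f0001100001000110000f000040000f0000f000050000f0001100004000110001100003000110001100005000110000b000000001100011000020001000010000000000f0000f000020000b0000b000050000b0000b000040000b0000b000030000b0000b0000100006000060000400006000060000300006000060000200006000060000000006000060000500000000000000400000000000000300000000000000200000000000000100000000000000000000)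

/-- Packed table. -/
def factTree : Tr := factTree0

end Cfsg.Agent.Screen.CosetEnum.Fi23Ord.F23L1
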