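import Cfsg.Agent.Screen.CosetEnum.Core

/-!
# Rows of the certificate
-/

set_option autoImplicit false
set_option maxRecDepth 20000

namespace Cfsg.Agent.Screen.CosetEnum.Fi23Ord.F23L1

open Cfsg.Agent.Screen.CosetEnum

def rowTree0 : Tr :=
  (.leaf 0x8a0001e0008e0001f0008d0001f0008c0001f0008f0001f0008b0001f0008a0001f000870001e000860001e000890001e000850001d000880001e000830001d000840001d000820001d0007b0001b000850001e0007a0001c0007e0001c0007f0001c000810001c0007900019000800001c0007a0001d0007c0001b0007d0001b000750001a0007b0001d000780001b0007400019000730001a0006f00018000750001b000720001a000770001a0006e00017000760001900071000190006800017000790001c0006700016000740001b0006c000180006f0001a0006d000180006b0001800070000180006a00015000610001700059000150006800019000640001700058000140006e0001a0005f00013000690001600060000140006500016000670001900066000160005b00015000590001700057000150005a0001500056000110006a000180005000010000540001100060000160004f00012000580001700055000140005f0001600063000130005c0001000062000130005e000130005d00013000410000e000420000f00051000120004f000140004c000120004e000120003c0000d000540001400053000110003b0000f0005600015000520001100050000140003e0000d0005c000130003d0000e0004b000100004d00010000380000a0004200012000400000b0003b00011000440000f000390000f0004100012000320000a000460000e0003d00010000310000c0003a0000e0003c000110003e000100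00450000d000360000a000430000d000370000d000340000c0002b00008000350000c000330000c000310000e0002a000090003f00007000490000b000400000f000480000b0004a0000b000470000b000380000f000320000e0002200007000360000d00021000080002f0000a0002e00009000290000600030000090002d000090002c000090002a0000c00025000080002b0000c0001c000050002800008000210000a0001b000060003f0000b0002400007000220000a0002700007000230000500026000070001f0000600029000090001a0000400020000060001e000060001b0000800019000050001d000050001c00008000100000300023000070000f00004000150000400016000040001a000060000e0000200018000040000f000050001200003000140000300013000030001000005000170000300011000020000d000020000c000020000b000020000e000040000a00001000110000300005000000000900001000080000100007000010000a000020000600001000050000100004000000000300000000020000000001000000000000000)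

/-- Packed table. -/
def rowTree : Tr := rowTree0

end Cfsg.Agent.Screen.CosetEnum.Fi23Ord.F23L1
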